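import Cfsg.Agent.H270.Inv.Sub
import Cfsg.Agent.H833.RadFi
import Cfsg.Agent.CTwoTab.FiTF
import Cfsg.Agent.BpSpor.Row.Fi24
import Cfsg.Agent.CpAutFiSeven.None

/-!
# S3830: the row `Fi24'` (helper270, market task 2576)
-/

set_option autoImplicit false

universe u

namespace Cfsg.Agent.H270.Inv.Fi24

open Cfsg Subgroup Cfsg.Agent.H459.Inv Cfsg.Agent.H270.Inv

/-- `Fi24'` has a subgroup isomorphic to `Fi23` -/
theorem exists_fi23 : ∃ M : Subgroup Spor.Fi24', IsSimpleGroup ↥M ∧ Nat.card ↥M = 4089470473293004800 := by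
  have h97 := Cfsg.Agent.S1697.result
  have hcard : Nat.card Spor.Fi24' = 1255205709190661721292800 := Cfsg.Agent.S1698.result.2
  obtain ⟨hub, hne⟩ := Cfsg.Agent.SporRec.Fi24Index.index_le
  obtain ⟨hfin, hH⟩ := Cfsg.Agent.Fischer.Fi24Spider.main hub hne h97.2
  obtain ⟨φ, hφ⟩ := Fischer.Fi24Class.exists_fi23_hom (Fischer.Fi24Real.spider hfin hH)
  have hφ1 : Function.Injective φ := by
    apply Fischer.Fi24Class.injective_of_simple h97.1
    refine ⟨Cfsg.Agent.SporRec.Fi23Rel.gen .a, ?_⟩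
    rw [hφ]
    intro h
    apply Fischer.Fi24Class.a_ne_l (by rw [hcard]; norm_num)
    have h2 : Fischer.Fi24Class.gen .a * Fischer.Fi24Class.gen .l = 1 := h
    rw [mul_eq_one_iff_eq_inv, Fischer.Fi24Class.gen_inv] at h2
    exact h2
  have hp23 : commutator Spor.Fi23 = ⊤ := Fischer.Fi24Class.perfect_of_simple h97.1 (by
    rw [h97.2]
    intro hp
    exact absurd ((Nat.prime_dvd_prime_iff_eq Nat.prime_two hp).1 (by norm_num)) (by norm_num))
  obtain ⟨K, hK1, hK2⟩ := Fischer.Fi24Class.exists_subgroup h97.1 φ hφ1 (commutator Spor.Fi24)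
    (Fischer.Fi24Class.range_le_commutator hp23 φ)
  exact ⟨K, hK1, hK2.trans h97.2⟩

/-- a simple group of composite order is not abelian -/
theorem not_comm_of_card {G : Type*} [Group G] [Finite G] (hG : IsSimpleGroup G) (h : ¬ (Nat.card G).Prime) :
    ¬ IsMulCommutative G := by
  intro hc
  apply h
  let _ : CommGroup G := { (inferInstance : Group G) with mul_comm := hc.is_comm.comm }
  exact IsSimpleGroup.prime_card (α := G)

theorem prime_cases {p : ℕ} (hp : p.Prime) (h5 : 5 ≤ p) (hd : p ∣ 1255205709190661721292800) :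
    p = 5 ∨ p = 7 ∨ p = 11 ∨ p = 13 ∨ p = 17 ∨ p = 23 ∨ p = 29 := by
  have h1 : (1255205709190661721292800 : ℕ) = 2 ^ 21 * 3 ^ 16 * 5 ^ 2 * 7 ^ 3 * 11 * 13 * 17 * 23 * 29 := by norm_num
  rw [h1] at hd
  have hq : ∀ q k : ℕ, q.Prime → p ∣ q ^ k → p = q := fun q k hq h =>
    (Nat.prime_dvd_prime_iff_eq hp hq).1 (hp.dvd_of_dvd_pow h)
  have hq1 : ∀ q : ℕ, q.Prime → p ∣ q → p = q := fun q hq h => (Nat.prime_dvd_prime_iff_eq hp hq).1 h
  rcases hp.dvd_mul.1 hd with hd | hd
  · rcases hp.dvd_mul.1 hd with hd | hd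
    · rcases hp.dvd_mul.1 hd with hd | hd
      · rcases hp.dvd_mul.1 hd with hd | hd
        · rcases hp.dvd_mul.1 hd with hd | hd
          · rcases hp.dvd_mul.1 hd with hd | hd
            · rcases hp.dvd_mul.1 hd with hd | hd
              · rcases hp.dvd_mul.1 hd with hd | hd
                · have := hq 2 _ (by norm_num) hd; omega
                · have := hq 3 _ (by norm_num) hd; omega
              · have := hq 5 _ (by norm_num) hd; omega
            · have := hq 7 _ (by norm_num) hd; omega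
          · have := hq1 11 (by norm_num) hd; omega
        · have := hq1 13 (by norm_num) hd; omega
      · have := hq1 17 (by norm_num) hd; omega
    · have := hq1 23 (by norm_num) hd; omega
  · have := hq1 29 (by norm_num) hd; omega

/-- the primes up to `23` -/
theorem ns_small {K : Type u} [Group K] [Finite K] (e : K ≃* Spor.Fi24') {p : ℕ} (hp : p.Prime)
    (h : p = 5 ∨ p = 7 ∨ p = 11 ∨ p = 13 ∨ p = 17 ∨ p = 23) (hI : IH.{u} p (Nat.card K)) {x : K} (hx : orderOf x = p) :
    NS (MulAut.conj x) := by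
  have hfin : Finite Spor.Fi24' := Finite.of_equiv K e.toEquiv
  have hK : Nat.card K = 1255205709190661721292800 := by
    rw [Nat.card_congr e.toEquiv, Cfsg.Agent.S1698.result.2]
  have key : ∀ (M : Subgroup Spor.Fi24') (c : ℕ), IsSimpleGroup M → Nat.card M = c → ¬ c.Prime →
      c < 1255205709190661721292800 → ¬ p ∣ 1255205709190661721292800 / c → NS (MulAut.conj x) := by
    intro M c hM hc hnp hlt hi
    have e' : ↥(M.comap e.toMonoidHom) ≃* M :=
      { toFun := fun m => ⟨e m, m.2⟩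
        invFun := fun m => ⟨e.symm m, by
          show e (e.symm m) ∈ M
          rw [e.apply_symm_apply]
          exact m.2⟩
        left_inv := fun m => Subtype.ext (e.symm_apply_apply _)
        right_inv := fun m => Subtype.ext (e.apply_symm_apply _)
        map_mul' := fun a b => Subtype.ext (map_mul e _ _) }
    have hc' : Nat.card ↥(M.comap e.toMonoidHom) = c := by rw [Nat.card_congr e'.toEquiv, hc]
    have hM' : IsSimpleGroup ↥(M.comap e.toMonoidHom) := (MulEquiv.isSimpleGroup_congr e').2 hM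
    refine ns_of_sub (M := M.comap e.toMonoidHom) hp hM' (not_comm_of_card hM' (by rwa [hc'])) ?_ ?_ hI hx
    · rw [hc', hK]; exact hlt
    · have h1 := (M.comap e.toMonoidHom).card_mul_index
      rw [hc', hK] at h1
      rw [← h1] at hi
      rwa [Nat.mul_div_cancel_left _ (by rw [← hc]; exact Nat.card_pos)] at hi
  obtain ⟨M1, hM1, hc1⟩ := H833.RadFi.exists_he
  obtain ⟨M2, hM2, hc2⟩ := exists_fi23
  have hn1 : ¬ (4030387200 : ℕ).Prime := fun hp =>
    absurd ((Nat.prime_dvd_prime_iff_eq Nat.prime_two hp).1 (by norm_num)) (by norm_num)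
  have hn2 : ¬ (4089470473293004800 : ℕ).Prime := fun hp =>
    absurd ((Nat.prime_dvd_prime_iff_eq Nat.prime_two hp).1 (by norm_num)) (by norm_num)
  rcases h with rfl | rfl | rfl | rfl | rfl | rfl
  · exact key M1 _ hM1 hc1 hn1 (by norm_num) (by norm_num)
  · exact key M1 _ hM1 hc1 hn1 (by norm_num) (by norm_num)
  · exact key M2 _ hM2 hc2 hn2 (by norm_num) (by norm_num)
  · exact key M2 _ hM2 hc2 hn2 (by norm_num) (by norm_num)
  · exact key M2 _ hM2 hc2 hn2 (by norm_num) (by norm_num)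
  · exact key M2 _ hM2 hc2 hn2 (by norm_num) (by norm_num)

/-! ### The prime `29` -/

theorem card_cent_L {d : Spor.Fi24} (hd : d ∈ R08.FiTwentyFour.L) :
    ¬ 29 ∣ Nat.card ↥(centralizer ({d} : Set Spor.Fi24)) := by
  have hfin : Finite Spor.Fi24 := R08.FiTwentyFour.finite_Fi24
  have h1 := R08.TetBig.orb (⊤ : Subgroup Spor.Fi24) d R08.FiTwentyFour.L (fun y => by
    constructor
    · intro hy
      obtain ⟨g, hg⟩ := CpAutFiSeven.isConj_L hd hy
      exact ⟨g, mem_top g, hg⟩
    · rintro ⟨g, -, rfl⟩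
      exact R08.FiTwentyFour.conj hd g)
  rw [card_top, CpAutFiSeven.card_F, R08.FiTwentyFour.ncard_L, top_inf_eq] at h1
  intro h2
  obtain ⟨m, hm⟩ := h2
  rw [hm] at h1
  omega

/-- elements of order `29` commute with no involution -/
theorem comm_free {x : Spor.Fi24'} (hx : orderOf x = 29) {t : Spor.Fi24'} (ht : orderOf t = 2) : x * t ≠ t * x := by
  intro hxt
  have hfin : Finite Spor.Fi24 := R08.FiTwentyFour.finite_Fi24
  have hxo : orderOf (x : Spor.Fi24) = 29 := by rw [Subgroup.orderOf_coe, hx]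
  rcases CTwoTab.FiTF.classes t ht with ⟨a, b, P, hab⟩ | ⟨g, hg⟩
  · have hfs := CTwoTab.FiTF.fix_or_swap P hab (mem_centralizer_singleton_iff.2 hxt)
    have hfix : (x : Spor.Fi24) * a * (x : Spor.Fi24)⁻¹ = a := by
      rcases hfs with h | h
      · exact h.1
      · exfalso
        apply P.ne
        have h1 : ∀ i : ℕ, ((x : Spor.Fi24) ^ (2 * i + 1)) * a * ((x : Spor.Fi24) ^ (2 * i + 1))⁻¹ = b := by
          intro i
          induction i with
          | zero => simpa using h.1
          | succ i ih =>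
            have e1 : (x : Spor.Fi24) ^ (2 * (i + 1) + 1) = (x : Spor.Fi24) * ((x : Spor.Fi24) * (x : Spor.Fi24) ^ (2 * i + 1)) := by
              rw [← pow_succ', ← pow_succ']
              congr 1
            rw [e1]
            calc (x : Spor.Fi24) * ((x : Spor.Fi24) * (x : Spor.Fi24) ^ (2 * i + 1)) * a *
                  ((x : Spor.Fi24) * ((x : Spor.Fi24) * (x : Spor.Fi24) ^ (2 * i + 1)))⁻¹
                = (x : Spor.Fi24) * ((x : Spor.Fi24) * ((x : Spor.Fi24) ^ (2 * i + 1) * a *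
                    ((x : Spor.Fi24) ^ (2 * i + 1))⁻¹) * (x : Spor.Fi24)⁻¹) * (x : Spor.Fi24)⁻¹ := by group
              _ = b := by rw [ih, h.2, h.1]
        have h2 := h1 14
        have h3 : (x : Spor.Fi24) ^ (2 * 14 + 1) = 1 := by
          have h4 := pow_orderOf_eq_one (x : Spor.Fi24)
          rw [hxo] at h4
          exact h4
        rw [h3, one_mul, inv_one, mul_one] at h2
        exact h2
    apply card_cent_L P.ha
    have h1 : (x : Spor.Fi24) ∈ centralizer ({a} : Set Spor.Fi24) := by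
      rw [mem_centralizer_singleton_iff]
      rwa [mul_inv_eq_iff_eq_mul] at hfix
    rw [← hxo]
    exact Subgroup.orderOf_dvd_natCard _ h1
  · subst hg
    have h0 : (g⁻¹ * x * g) * CTwoTab.FiTF.z0 = CTwoTab.FiTF.z0 * (g⁻¹ * x * g) := by
      calc (g⁻¹ * x * g) * CTwoTab.FiTF.z0 = g⁻¹ * (x * (g * CTwoTab.FiTF.z0 * g⁻¹)) * g := by group
        _ = g⁻¹ * (g * CTwoTab.FiTF.z0 * g⁻¹ * x) * g := by rw [hxt]
        _ = _ := by group
    have h1 : ((g⁻¹ * x * g : Spor.Fi24') : Spor.Fi24) ∈ centralizer ({KFacts.FiTF.Defs.z} : Set Spor.Fi24) := by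
      rw [mem_centralizer_singleton_iff, ← CTwoTab.FiTF.coe_z0]
      exact congrArg Subtype.val h0
    have h2 : orderOf ((g⁻¹ * x * g : Spor.Fi24') : Spor.Fi24) = 29 := by
      rw [Subgroup.orderOf_coe]
      have h3 : g⁻¹ * x * g = MulAut.conj g⁻¹ x := by rw [MulAut.conj_apply, inv_inv]
      rw [h3, MulEquiv.orderOf_eq, hx]
    have h3 := Subgroup.orderOf_dvd_natCard _ h1
    rw [h2, KFacts.FiTF.Order.card] at h3
    exact absurd h3 (by norm_num)

/-- an element of order `29` normalises no nontrivial `2`-subgroup -/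
theorem free29 {x : Spor.Fi24'} (hx : orderOf x = 29) {P : Subgroup Spor.Fi24'} (hP : IsPGroup 2 P)
    (hn : ∀ g ∈ P, x * g * x⁻¹ ∈ P) : P = ⊥ := by
  have hfin : Finite Spor.Fi24' := Nat.finite_of_card_ne_zero (by rw [Cfsg.Agent.S1698.result.2]; norm_num)
  refine two_free (p := 29) (by norm_num) hx (fun t ht => comm_free hx ht) (a := 21) ?_ ?_ hP hn
  · rw [Cfsg.Agent.S1698.result.2]
    norm_num
  · intro j h1 h2
    interval_cases j <;> norm_num

/-- a four-group -/
theorem four : ∃ s t : Spor.Fi24', orderOf s = 2 ∧ orderOf t = 2 ∧ s ≠ t ∧ s * t = t * s := by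
  have hT := KFacts.FiTF.Order.hT
  have key : ∀ {a b : Spor.Fi24}, a ∈ R08.FiTwentyFour.L → b ∈ R08.FiTwentyFour.L → Commute a b → a ≠ b →
      (a * b) * (a * b) = 1 ∧ a * b ≠ 1 := by
    intro a b ha hb hab hne
    constructor
    · calc (a * b) * (a * b) = a * (b * a) * b := by group
        _ = a * (a * b) * b := by rw [hab.eq]
        _ = (a * a) * (b * b) := by group
        _ = 1 := by rw [R08.FiTwentyFour.sq ha, R08.FiTwentyFour.sq hb, one_mul]
    · intro h
      apply hne
      have h1 : a * (a * b) = a := by rw [h, mul_one]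
      rw [← mul_assoc, R08.FiTwentyFour.sq ha, one_mul] at h1
      exact h1.symm
  have : Fact (Nat.Prime 2) := ⟨Nat.prime_two⟩
  have k1 := key hT.ha hT.hb hT.ab hT.nab
  have k2 := key hT.ha hT.hc hT.ac hT.nac
  refine ⟨⟨_, R08.FiTwentyFour.mul_mem_commutator hT.ha hT.hb⟩, ⟨_, R08.FiTwentyFour.mul_mem_commutator hT.ha hT.hc⟩,
    ?_, ?_, ?_, ?_⟩
  · apply orderOf_eq_prime
    · exact Subtype.ext (by rw [Subgroup.coe_pow, pow_two]; exact k1.1)
    · exact fun h => k1.2 (congrArg Subtype.val h)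
  · apply orderOf_eq_prime
    · exact Subtype.ext (by rw [Subgroup.coe_pow, pow_two]; exact k2.1)
    · exact fun h => k2.2 (congrArg Subtype.val h)
  · intro h
    exact hT.nbc (mul_left_cancel (congrArg Subtype.val h))
  · apply Subtype.ext
    have hcomm : Commute (KFacts.FiTF.Defs.D 0 0 * KFacts.FiTF.Defs.D 0 1)
        (KFacts.FiTF.Defs.D 0 0 * KFacts.FiTF.Defs.D 0 2) :=
      ((Commute.refl _).mul_right hT.ac).mul_left (hT.ab.symm.mul_right hT.bc)
    exact hcomm.eq

end Cfsg.Agent.H270.Inv.Fi24
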